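import Groth.Agent.SiteBase.PerfLift.Base
import Mathlib.Algebra.Homology.HomotopyCategory.HomologicalFunctor
import Mathlib.Algebra.Homology.HomotopyCategory.Pretriangulated
import Mathlib.Algebra.Homology.HomotopyCategory.ShiftSequence

/-!
# Maps out of strictly perfect complexes lift locally up to homotopy
-/

set_option autoImplicit false

universe u

open CategoryTheory CategoryTheory.Limits Opposite Pretriangulated

namespace Groth.Agent.PerfLift

open SuppCore

section Cone

variable {A : Type*} [Category A] [Abelian A] {K L : CochainComplex A ℤ} (f : K ⟶ L)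

theorem exactAt_mappingCone (n : ℤ)
    (he : Epi (HomologicalComplex.homologyMap f n))
    (hm : Mono (HomologicalComplex.homologyMap f (n + 1))) :
    (CochainComplex.mappingCone f).ExactAt n := by
  let H := HomotopyCategory.homologyFunctor A (ComplexShape.up ℤ) 0
  let T := CochainComplex.mappingCone.triangleh f
  have hT : T ∈ distTriang (HomotopyCategory A (ComplexShape.up ℤ)) :=
    HomotopyCategory.mappingCone_triangleh_distinguished f
  have e : ∀ i : ℤ, Arrow.mk ((H.shift i).map T.mor₁) ≅ Arrow.mk (HomologicalComplex.homologyMap f i) :=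
    fun i => Arrow.isoOfNatIso (HomotopyCategory.homologyFunctorFactors A (ComplexShape.up ℤ) i) (Arrow.mk f)
  have h1 : Epi ((H.shift n).map T.mor₁) := ((MorphismProperty.epimorphisms A).arrow_mk_iso_iff (e n)).2 he
  have h2 : Mono ((H.shift (n + 1)).map T.mor₁) :=
    ((MorphismProperty.monomorphisms A).arrow_mk_iso_iff (e (n + 1))).2 hm
  have h3 := (H.homologySequence_epi_shift_map_mor₁_iff T hT n).1 h1
  have h4 := (H.homologySequence_mono_shift_map_mor₁_iff T hT n (n + 1) rfl).1 h2
  have h5 : IsZero ((H.shift n).obj T.obj₃) :=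
    (H.homologySequence_exact₃ T hT n (n + 1) rfl).isZero_of_both_zeros h3 h4
  rw [HomologicalComplex.exactAt_iff_isZero_homology]
  exact h5.of_iso ((HomotopyCategory.homologyFunctorFactors A (ComplexShape.up ℤ) n).app _).symm

end Cone

variable {C : Type u} [SmallCategory C] {J : GrothendieckTopology C} {O : Sheaf J CommRingCat.{u}}

local notation "Res" W => ModSite.restr O W

/-- A degreewise lift through the differential of a complex exact in that degree. -/
theorem exists_lift_d {X : CochainComplex (ModSite.Mod O) ℤ} (i j k : ℤ) (hij : i + 1 = j) (hjk : j + 1 = k)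
    (hX : X.ExactAt j) {E : ModSite.Mod O} (hE : DCoh.IsFinFreeSummandMod (ModSite.ringSh O) E) {W : C}
    (φ : (Res W).obj E ⟶ (Res W).obj (X.X j)) (hφ : φ ≫ (Res W).map (X.d j k) = 0) :
    ∃ S ∈ J W, ∀ ⦃W₁ : C⦄ (h : W₁ ⟶ W), S h →
      ∃ l : (Res W₁).obj E ⟶ (Res W₁).obj (X.X i), l ≫ (Res W₁).map (X.d i j) = pullHom h φ := by
  have hex : (ShortComplex.mk (X.d i j) (X.d j k) (X.d_comp_d i j k)).Exact :=
    (HomologicalComplex.exactAt_iff' X i j k (by simp; omega) (by simp; omega)).1 hX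
  let p : X.X i ⟶ kernel (X.d j k) := kernel.lift (X.d j k) (X.d i j) (X.d_comp_d i j k)
  have hp : Epi p := hex.epi_kernelLift
  have : PreservesLimitsOfSize.{0, 0} (Res W) := (ModSite.extZeroAdj O W).rightAdjoint_preservesLimits
  let ψ : (Res W).obj E ⟶ (Res W).obj (kernel (X.d j k)) :=
    kernel.lift ((Res W).map (X.d j k)) φ hφ ≫ inv (kernelComparison (X.d j k) (Res W))
  have hψ : ψ ≫ (Res W).map (kernel.ι (X.d j k)) = φ := by
    rw [← kernelComparison_comp_ι (f := X.d j k) (G := Res W), Category.assoc,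
      IsIso.inv_hom_id_assoc, kernel.lift_ι]
  obtain ⟨S, hS, hl⟩ := exists_local_lift_over hE p ψ
  refine ⟨S, hS, fun W₁ h hh => ?_⟩
  obtain ⟨l, hl⟩ := hl h hh
  refine ⟨l, ?_⟩
  rw [← hψ, pullHom_comp, pullHom_map, ← hl, Category.assoc, ← Functor.map_comp, kernel.lift_ι]

/-- The descending construction of a null homotopy. -/
theorem exists_local_homotopy_step {E X : CochainComplex (ModSite.Mod O) ℤ} (ε : E ⟶ X)
    (hE : ∀ i, DCoh.IsFinFreeSummandMod (ModSite.ringSh O) (E.X i)) (b : ℤ)
    (hb : ∀ i, b < i → IsZero (E.X i)) (a : ℤ) (hX : ∀ i, a ≤ i → X.ExactAt i) (V : C) (n : ℕ)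
    (hn : a ≤ b + 1 - n) :
    ∃ R ∈ J V, ∀ ⦃W : C⦄ (g : W ⟶ V), R g →
      ∃ h : ∀ i j : ℤ, j + 1 = i → ((Res W).obj (E.X i) ⟶ (Res W).obj (X.X j)),
        ∀ (i j k : ℤ) (hij : i + 1 = j) (hjk : j + 1 = k), b - n < j →
          (Res W).map (ε.f j) = (Res W).map (E.d j k) ≫ h k j hjk + h j i hij ≫ (Res W).map (X.d i j) := by
  induction n with
  | zero =>
    refine ⟨⊤, J.top_mem V, fun W g _ => ⟨fun _ _ _ => 0, fun i j k hij hjk hj => ?_⟩⟩
    exact ((Res W).map_isZero (hb j (by omega))).eq_of_src _ _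
  | succ n ih =>
    obtain ⟨R, hR, hh⟩ := ih (by omega)
    let k₀ : ℤ := b - n
    have hexact : X.ExactAt k₀ := hX k₀ (by omega)
    choose h hh using hh
    have key : ∀ ⦃W : C⦄ (g : W ⟶ V) (hg : R g), ∃ S ∈ J W, ∀ ⦃W₁ : C⦄ (q : W₁ ⟶ W), S q →
        ∃ l : (Res W₁).obj (E.X k₀) ⟶ (Res W₁).obj (X.X (k₀ - 1)),
          l ≫ (Res W₁).map (X.d (k₀ - 1) k₀) = pullHom q ((Res W).map (ε.f k₀) -
            (Res W).map (E.d k₀ (k₀ + 1)) ≫ h g hg (k₀ + 1) k₀ rfl) := fun W g hg => by
      refine exists_lift_d (k₀ - 1) k₀ (k₀ + 1) (by omega) rfl hexact (hE k₀) _ ?_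
      have e1 := hh g hg k₀ (k₀ + 1) (k₀ + 2) rfl (by omega) (by omega)
      rw [Preadditive.sub_comp, ← Functor.map_comp, ε.comm, Functor.map_comp, e1, Preadditive.comp_add,
        ← Functor.map_comp_assoc, E.d_comp_d, Functor.map_zero, zero_comp, zero_add, Category.assoc, sub_self]
    choose S hS hl using key
    refine ⟨Sieve.bind R.arrows fun W g hg => S g hg, J.bind_covering hR fun W g hg => hS g hg, ?_⟩
    rintro W₁ _ ⟨W, q, g, hg, hq, rfl⟩
    obtain ⟨l, hl⟩ := hl g hg q hq
    refine ⟨fun i j hij => if e : i = k₀ then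
        (Res W₁).map (eqToHom (by rw [e])) ≫ l ≫ (Res W₁).map (eqToHom (by rw [show j = k₀ - 1 by omega]))
      else pullHom q (h g hg i j hij), fun i j k hij hjk hj => ?_⟩
    have hk : k ≠ k₀ := by omega
    rcases eq_or_ne j k₀ with e | e
    · subst e
      obtain rfl : i = k₀ - 1 := by omega
      obtain rfl : k = k₀ + 1 := by omega
      beta_reduce
      rw [dif_neg hk, dif_pos rfl, eqToHom_refl, eqToHom_refl, CategoryTheory.Functor.map_id,
        CategoryTheory.Functor.map_id, Category.id_comp, Category.comp_id, hl, pullHom_sub, pullHom_comp,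
        pullHom_map, pullHom_map]
      abel
    · beta_reduce
      rw [dif_neg hk, dif_neg e]
      have e1 := congrArg (pullHom q) (hh g hg i j k hij hjk (by omega))
      rw [pullHom_add, pullHom_comp, pullHom_comp, pullHom_map, pullHom_map, pullHom_map] at e1
      exact e1

theorem nonempty_homotopy_zero {A B : Type*} [Category A] [Category B] [Preadditive A] [Preadditive B]
    (F : A ⥤ B) [F.Additive] {E X : CochainComplex A ℤ} (ε : E ⟶ X) (a : ℤ)
    (ha : ∀ i, i < a → IsZero (E.X i))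
    (h : ∀ i j : ℤ, j + 1 = i → (F.obj (E.X i) ⟶ F.obj (X.X j)))
    (hh : ∀ (i j k : ℤ) (hij : i + 1 = j) (hjk : j + 1 = k), a ≤ j →
      F.map (ε.f j) = F.map (E.d j k) ≫ h k j hjk + h j i hij ≫ F.map (X.d i j)) :
    Nonempty (Homotopy ((F.mapHomologicalComplex (ComplexShape.up ℤ)).map ε) 0) := by
  let h' : ∀ i j : ℤ, (ComplexShape.up ℤ).Rel j i →
      (((F.mapHomologicalComplex (ComplexShape.up ℤ)).obj E).X i ⟶
        ((F.mapHomologicalComplex (ComplexShape.up ℤ)).obj X).X j) := fun i j hij => h i j hij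
  have e : (F.mapHomologicalComplex (ComplexShape.up ℤ)).map ε = Homotopy.nullHomotopicMap' h' := by
    ext1 j
    have h1 : (ComplexShape.up ℤ).Rel (j - 1) j := by simp
    have h2 : (ComplexShape.up ℤ).Rel j (j + 1) := by simp
    rw [Homotopy.nullHomotopicMap'_f h1 h2 h']
    by_cases hj : j < a
    · exact (F.map_isZero (ha j hj)).eq_of_src _ _
    · exact hh (j - 1) j (j + 1) h1 h2 (le_of_not_gt hj)
  exact ⟨(Homotopy.ofEq e).trans (Homotopy.nullHomotopy' h')⟩

/-- A map from a strictly perfect complex, zero below `a`, into a complex exact from `a` on is locally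
null homotopic. -/
theorem exists_local_nullHomotopy {E X : CochainComplex (ModSite.Mod O) ℤ} (ε : E ⟶ X)
    (hE : DCoh.IsStrictlyPerfectMod (ModSite.ringSh O) E) (a : ℤ) (ha : ∀ i, i < a → IsZero (E.X i))
    (hX : ∀ i, a ≤ i → X.ExactAt i) (V : C) :
    ∃ R ∈ J V, ∀ ⦃W : C⦄ (g : W ⟶ V), R g →
      Nonempty (Homotopy (((Res W).mapHomologicalComplex (ComplexShape.up ℤ)).map ε) 0) := by
  obtain ⟨⟨a', b', hab⟩, hfree⟩ := hE
  let b := max a b'
  have hb : ∀ i, b < i → IsZero (E.X i) := fun i hi => hab i (Or.inr (lt_of_le_of_lt (le_max_right a b') hi))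
  have hab' : a ≤ b := le_max_left a b'
  obtain ⟨R, hR, hh⟩ := exists_local_homotopy_step ε hfree b hb a hX V (b + 1 - a).toNat (by omega)
  refine ⟨R, hR, fun W g hg => ?_⟩
  obtain ⟨h, hh⟩ := hh g hg
  exact nonempty_homotopy_zero (Res W) ε a ha h fun i j k hij hjk hj => hh i j k hij hjk (by omega)

/-- Maps out of strictly perfect complexes lift locally up to homotopy. -/
theorem exists_local_lift_upToHomotopy {E F G : CochainComplex (ModSite.Mod O) ℤ} (α : E ⟶ F) (f : G ⟶ F)
    (hE : DCoh.IsStrictlyPerfectMod (ModSite.ringSh O) E) (a : ℤ)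
    (ha : ∀ j : ℤ, j < a → IsZero (E.X j))
    (hiso : ∀ j : ℤ, a < j → IsIso (HomologicalComplex.homologyMap f j))
    (hepi : Epi (HomologicalComplex.homologyMap f a)) (V : C) :
    ∃ R ∈ J V, ∀ ⦃W : C⦄ (g : W ⟶ V), R g →
      ∃ β : ((Res W).mapHomologicalComplex (ComplexShape.up ℤ)).obj E ⟶
          ((Res W).mapHomologicalComplex (ComplexShape.up ℤ)).obj G,
        Nonempty (Homotopy (β ≫ ((Res W).mapHomologicalComplex (ComplexShape.up ℤ)).map f)
          (((Res W).mapHomologicalComplex (ComplexShape.up ℤ)).map α)) := by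
  have hX : ∀ i, a ≤ i → (CochainComplex.mappingCone f).ExactAt i := fun i hi => by
    refine exactAt_mappingCone f i ?_ ?_
    · rcases eq_or_lt_of_le hi with rfl | hi
      · exact hepi
      · have := hiso i hi; infer_instance
    · have := hiso (i + 1) (by omega); infer_instance
  obtain ⟨R, hR, hh⟩ := exists_local_nullHomotopy (α ≫ CochainComplex.mappingCone.inr f) hE a ha hX V
  refine ⟨R, hR, fun W g hg => ?_⟩
  obtain ⟨H⟩ := hh g hg
  let F' := (Res W).mapHomologicalComplex (ComplexShape.up ℤ)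
  let q := HomotopyCategory.quotient (ModSite.Mod (O.over W)) (ComplexShape.up ℤ)
  have h0 : q.map (F'.map α) ≫ q.map (CochainComplex.mappingCone.inr (F'.map f)) = 0 := by
    rw [← Functor.map_comp, ← CochainComplex.mappingCone.map_inr, ← Category.assoc, ← Functor.map_comp,
      Functor.map_comp, show q.map (F'.map (α ≫ CochainComplex.mappingCone.inr f)) = 0 from
        (HomotopyCategory.eq_of_homotopy _ _ H).trans (q.map_zero _ _), zero_comp]
  obtain ⟨β₀, hβ⟩ := Triangle.coyoneda_exact₂ _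
    (HomotopyCategory.mappingCone_triangleh_distinguished (F'.map f)) (q.map (F'.map α)) h0
  obtain ⟨β, rfl⟩ := q.map_surjective β₀
  refine ⟨β, ⟨HomotopyCategory.homotopyOfEq _ _ ?_⟩⟩
  rw [Functor.map_comp]
  exact hβ.symm

end Groth.Agent.PerfLift
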