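import Groth.Agent.SiteBase.PerfLift.Main
import Mathlib.Algebra.Homology.DerivedCategory.ExactFunctor
import Mathlib.Algebra.Homology.DerivedCategory.Fractions

/-!
# Derived maps out of strictly perfect complexes are locally maps of complexes
-/

set_option autoImplicit false

universe u

open CategoryTheory CategoryTheory.Limits Opposite

namespace Groth.Agent.PerfLift

theorem eq_of_roof {A B : Type*} [Category A] [Category B] [Abelian A] [Abelian B]
    [HasDerivedCategory A] [HasDerivedCategory B] (F : A ⥤ B) [F.Additive]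
    [PreservesFiniteLimits F] [PreservesFiniteColimits F]
    {E X Y : CochainComplex A ℤ} (g : E ⟶ Y) (s : X ⟶ Y) [IsIso (DerivedCategory.Q.map s)]
    (β : (F.mapHomologicalComplex (ComplexShape.up ℤ)).obj E ⟶ (F.mapHomologicalComplex (ComplexShape.up ℤ)).obj X)
    (H : Homotopy (β ≫ (F.mapHomologicalComplex (ComplexShape.up ℤ)).map s)
      ((F.mapHomologicalComplex (ComplexShape.up ℤ)).map g)) :
    F.mapDerivedCategory.map (DerivedCategory.Q.map g ≫ inv (DerivedCategory.Q.map s)) =
      F.mapDerivedCategoryFactors.hom.app E ≫ DerivedCategory.Q.map β ≫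
        F.mapDerivedCategoryFactors.inv.app X := by
  rw [Functor.map_comp, Functor.map_inv, IsIso.comp_inv_eq]
  have h1 := DerivedCategory.Q_map_eq_of_homotopy _ H
  rw [Functor.map_comp] at h1
  rw [← cancel_mono (F.mapDerivedCategoryFactors.hom.app Y)]
  simp only [Category.assoc, Functor.mapDerivedCategoryFactors_hom_naturality]
  rw [Iso.inv_hom_id_app_assoc, ← h1]

theorem exists_local_map_eq
    {C : Type u} [SmallCategory C] {J : GrothendieckTopology C} (O : Sheaf J CommRingCat.{u})
    [HasDerivedCategory.{u} (ModSite.Mod O)] [∀ W : C, HasDerivedCategory.{u} (ModSite.Mod (O.over W))]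
    [∀ W : C, (ModSite.restr O W).Additive] [∀ W : C, PreservesFiniteColimits (ModSite.restr O W)]
    (E F : CochainComplex (ModSite.Mod O) ℤ) (hE : DCoh.IsStrictlyPerfectMod (ModSite.ringSh O) E)
    (α : DerivedCategory.Q.obj E ⟶ DerivedCategory.Q.obj F) (V : C) :
    ∃ R ∈ J V, ∀ ⦃W : C⦄ (g : W ⟶ V), R g →
      ∃ α' : ((ModSite.restr O W).mapHomologicalComplex (ComplexShape.up ℤ)).obj E ⟶
          ((ModSite.restr O W).mapHomologicalComplex (ComplexShape.up ℤ)).obj F,
        (ModSite.restr O W).mapDerivedCategory.map α =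
          (ModSite.restr O W).mapDerivedCategoryFactors.hom.app E ≫ DerivedCategory.Q.map α' ≫
            (ModSite.restr O W).mapDerivedCategoryFactors.inv.app F := by
  obtain ⟨Y, g, s, hs, rfl⟩ := DerivedCategory.left_fac α
  obtain ⟨a, b, hab⟩ := hE.1
  have hq : QuasiIso s := (DerivedCategory.isIso_Q_map_iff_quasiIso _ s).1 hs
  obtain ⟨R, hR, hh⟩ := exists_local_lift_upToHomotopy g s hE a (fun j hj => hab j (Or.inl hj))
    (fun j _ => (quasiIsoAt_iff_isIso_homologyMap s j).1 (hq.quasiIsoAt j))
    (have := (quasiIsoAt_iff_isIso_homologyMap s a).1 (hq.quasiIsoAt a); inferInstance) V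
  refine ⟨R, hR, fun W h hg => ?_⟩
  obtain ⟨β, ⟨H⟩⟩ := hh h hg
  exact ⟨β, eq_of_roof _ g s β H⟩

end Groth.Agent.PerfLift
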