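import Groth.Agent.SiteBase.LocalLift

/-!
# Morphisms of restrictions pulled back along arrows, and local lifting over an object
-/

set_option autoImplicit false

universe u

open CategoryTheory CategoryTheory.Limits Opposite

namespace Groth.Agent.PerfLift

open SuppCore

variable {C : Type u} [SmallCategory C] {J : GrothendieckTopology C} {O : Sheaf J CommRingCat.{u}}
  {A B D : ModSite.Mod O} {W W' : C} (g : W' ⟶ W)

/-- Pull a morphism of modules over `C/W` back to `C/W'`. -/
noncomputable def pullHom (φ : (ModSite.restr O W).obj A ⟶ (ModSite.restr O W).obj B) :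
    (ModSite.restr O W').obj A ⟶ (ModSite.restr O W').obj B :=
  ⟨{ app := fun V => φ.val.app (op ((Over.map g).obj V.unop))
     naturality := fun {V V'} f => φ.val.naturality ((Over.map g).map f.unop).op }⟩

lemma pullHom_comp (φ : (ModSite.restr O W).obj A ⟶ (ModSite.restr O W).obj B)
    (ψ : (ModSite.restr O W).obj B ⟶ (ModSite.restr O W).obj D) :
    pullHom g (φ ≫ ψ) = pullHom g φ ≫ pullHom g ψ := rfl

lemma pullHom_map (φ : A ⟶ B) : pullHom g ((ModSite.restr O W).map φ) = (ModSite.restr O W').map φ := rfl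

lemma pullHom_add (φ ψ : (ModSite.restr O W).obj A ⟶ (ModSite.restr O W).obj B) :
    pullHom g (φ + ψ) = pullHom g φ + pullHom g ψ := rfl

lemma pullHom_zero : pullHom g (0 : (ModSite.restr O W).obj A ⟶ (ModSite.restr O W).obj B) = 0 := rfl

lemma pullHom_sub (φ ψ : (ModSite.restr O W).obj A ⟶ (ModSite.restr O W).obj B) :
    pullHom g (φ - ψ) = pullHom g φ - pullHom g ψ := rfl

/-- Morphisms out of finite free modules over `C/W` lift locally along epimorphisms. -/
theorem exists_local_lift_free_over {n : ℕ} {F G : ModSite.Mod O} (p : G ⟶ F) [Epi p]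
    (φ : (ModSite.restr O W).obj (SheafOfModules.free (R := ModSite.ringSh O) (ULift.{u} (Fin n))) ⟶
      (ModSite.restr O W).obj F) :
    ∃ S ∈ J W, ∀ ⦃W₁ : C⦄ (h : W₁ ⟶ W), S h →
      ∃ l : (ModSite.restr O W₁).obj (SheafOfModules.free (R := ModSite.ringSh O) (ULift.{u} (Fin n))) ⟶
          (ModSite.restr O W₁).obj G,
        l ≫ (ModSite.restr O W₁).map p = pullHom h φ := by
  classical
  let Φ : ∀ k : ULift.{u} (Fin n), ((ModSite.restr O W).obj F).sections := fun k =>
    ((ModSite.restr O W).obj F).unitHomEquiv ((ModSite.restr O W).map (SheafOfModules.ιFree k) ≫ φ)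
  let s : ULift.{u} (Fin n) → ModSite.sect F W := fun k => (Φ k).val (op (Over.mk (𝟙 W)))
  choose S hS hlift using fun k => exists_cover_lift p (s k)
  refine ⟨Finset.univ.inf S, ?_, fun W₁ h hh => ?_⟩
  · refine Finset.inf_induction (p := fun R : Sieve W => R ∈ J W) (J.top_mem W)
      (fun a ha b hb => J.intersection_covering ha hb) fun k _ => hS k
  have hk : ∀ k, (S k).arrows h := fun k => by
    have e : Finset.univ.inf S ≤ S k := Finset.inf_le (Finset.mem_univ k)
    exact e _ hh
  choose t ht using fun k => hlift k h (hk k)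
  have : PreservesFiniteColimits (ModSite.restr O W₁) := preservesFiniteColimits_restr W₁
  let hc := isColimitCofanMkObjOfIsColimit (ModSite.restr O W₁) _ _
    (SheafOfModules.isColimitFreeCofan (R := ModSite.ringSh O) (ULift.{u} (Fin n)))
  refine ⟨Cofan.IsColimit.desc hc fun k => overUnitHom G (t k), Cofan.IsColimit.hom_ext hc _ _ fun k => ?_⟩
  refine (Category.assoc _ _ _).symm.trans ((congrArg (· ≫ _) (Cofan.IsColimit.fac hc _ k)).trans ?_)
  refine (overUnitHom_comp p (t k)).trans ?_
  refine (((ModSite.restr O W₁).obj F).unitHomEquiv.injective ?_)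
  refine (Equiv.apply_symm_apply _ _).trans ?_
  refine Subtype.ext (funext fun V => ?_)
  show res F V.unop.hom ((p.val.app (op W₁)).hom (t k)) = (Φ k).val (op ((Over.map h).obj V.unop))
  have e1 : (p.val.app (op W₁)).hom (t k) = res F h (s k) := ht k
  rw [e1, ← res_comp]
  exact (Φ k).property (Over.homMk (V.unop.hom ≫ h) :
    (Over.map h).obj V.unop ⟶ Over.mk (𝟙 W)).op

/-- Morphisms out of summands of finite free modules over `C/W` lift locally along epimorphisms. -/
theorem exists_local_lift_over {E F G : ModSite.Mod O}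
    (hE : DCoh.IsFinFreeSummandMod (ModSite.ringSh O) E) (p : G ⟶ F) [Epi p]
    (φ : (ModSite.restr O W).obj E ⟶ (ModSite.restr O W).obj F) :
    ∃ S ∈ J W, ∀ ⦃W₁ : C⦄ (h : W₁ ⟶ W), S h →
      ∃ l : (ModSite.restr O W₁).obj E ⟶ (ModSite.restr O W₁).obj G,
        l ≫ (ModSite.restr O W₁).map p = pullHom h φ := by
  obtain ⟨n, i, r, hir⟩ := hE
  obtain ⟨S, hS, hl⟩ := exists_local_lift_free_over p ((ModSite.restr O W).map r ≫ φ)
  refine ⟨S, hS, fun W₁ h hh => ?_⟩
  obtain ⟨l, hl⟩ := hl h hh
  refine ⟨(ModSite.restr O W₁).map i ≫ l, ?_⟩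
  rw [Category.assoc, hl, pullHom_comp, pullHom_map, ← Category.assoc, ← Functor.map_comp, hir]
  exact (congrArg (· ≫ pullHom h φ) ((ModSite.restr O W₁).map_id E)).trans (Category.id_comp _)

end Groth.Agent.PerfLift
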